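import Groth.Agent.CohBase.FlatBC.Phi
import Groth.Agent.KFlat.LTensorMod
import Groth.Agent.KFlat.Lpull
import Groth.Agent.KFlat.LpullComp
import Groth.Agent.LimTop.TensorQC
import Groth.Agent.ZClosLib.CohDescent

/-!
# Derived inverse image followed by tensoring with a module flat over the base
-/

set_option autoImplicit false

universe u

open CategoryTheory CategoryTheory.Limits AlgebraicGeometry
open Groth.Agent.KFlat Groth.Agent.KFlat.Pull Groth.Agent.KFlat.StalkTensor

attribute [local instance] HasDerivedCategory.standard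

noncomputable section

namespace Groth.Agent.FMBound.Flat

variable {X Z : Scheme.{u}} (p : Z ⟶ X) (A : Z.Modules)

/-- `N ↦ p^* N ⊗ A` -/
abbrev psi : X.Modules ⥤ Z.Modules := Scheme.Modules.pullback p ⋙ DCoh.tensorRightMod A

def psiIso : psi p A ≅ CohBase.FlatBC.phiF p A :=
  Functor.isoWhiskerLeft (Scheme.Modules.pullback p) ((tensorBiFlipIso (O := Z.sheaf)).app A)

instance additive_psi : (psi p A).Additive :=
  have : (Scheme.Modules.pullback p).Additive := inferInstance
  inferInstance

theorem preservesHomology_psi (hA : FlatMod.IsFlatOver p A) : (psi p A).PreservesHomology := by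
  have : PreservesColimitsOfSize.{0, 0} (psi p A) := preservesColimits_of_natIso (psiIso p A).symm
  have : (psi p A).PreservesMonomorphisms := ⟨fun {M N} f _ => by
    have := CohBase.FlatBC.mono_phiF_map p A hA f
    rw [← NatIso.naturality_2 (psiIso p A) f]
    infer_instance⟩
  exact (psi p A).preservesHomology_of_preservesMonos_and_cokernels

variable [DCoh.HasLpull p] [DCoh.HasLTensorMod A]

/-- The cohomology of `Lp^* M ⊗ᴸ A` for `A` flat over the base. -/
theorem nonempty_hdIso (hA : FlatMod.IsFlatOver p A) (M : CochainComplex X.Modules ℤ) (i : ℤ) :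
    Nonempty (DCoh.HD ((DCoh.LTensorMod A).obj ((DCoh.Lpull p).obj (DCoh.toD X M))) i ≅
      (psi p A).obj (M.homology i)) := by
  let P := (resY X).obj M
  have hP : DCoh.IsKFlat P := isKFlat_resY M
  have := quasiIso_resYπ M
  have := preservesHomology_psi p A hA
  have := isIso_toPull p hP
  let e : (DCoh.Lpull p).obj (DCoh.toD X M) ≅ DerivedCategory.Q.obj ((pullCx p).obj P) :=
    (DCoh.Lpull p).mapIso (asIso (DerivedCategory.Q.map ((resYπ X).app M))).symm ≪≫ asIso ((toPull p).app P)
  exact ⟨(DerivedCategory.homologyFunctor Z.Modules i).mapIso ((DCoh.LTensorMod A).mapIso e) ≪≫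
    LTensorMod.hdIso A (isKFlat_pullCx p hP) i ≪≫ (P.sc i).mapHomologyIso (psi p A) ≪≫
    (psi p A).mapIso (isoOfQuasiIsoAt ((resYπ X).app M) i)⟩

omit [DCoh.HasLpull p] [DCoh.HasLTensorMod A] in
theorem support_psi_subset (N : X.Modules) : CohB1.support ((psi p A).obj N) ⊆ CohB1.support A := by
  intro x hx hA
  have := hA
  exact hx (stalkTensorEquiv ((Scheme.Modules.pullback p).obj N) A x).toEquiv.subsingleton

omit [DCoh.HasLpull p] [DCoh.HasLTensorMod A] in
theorem isCoh_psi [IsLocallyNoetherian Z] (hA : Coh.IsCoh A) {N : X.Modules} (hN : Coh.IsCoh N) :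
    Coh.IsCoh ((psi p A).obj N) := by
  have h := ZClosLib.CohDescent.isCoh_pullback p N hN
  have := h.1; have := h.2; have := hA.1; have := hA.2
  exact ⟨LimTop.TensorQC.isQuasicoherent_tensM ((Scheme.Modules.pullback p).obj N) A,
    LimTop.TensorQC.isFT_tensM ((Scheme.Modules.pullback p).obj N) A⟩

end Groth.Agent.FMBound.Flat
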