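import Groth.Agent.PCohD.PerfTor
import Groth.Agent.PCohD.PerfAmp
import Groth.Agent.HTor95.CohModel
import Groth.Agent.DRing.Braid

/-!
# Tensor products of pullbacks of perfect objects with bounded complexes
-/

set_option autoImplicit false

universe u

open CategoryTheory CategoryTheory.Limits AlgebraicGeometry MonoidalCategory
open Groth.Agent.KFlat Groth.Agent.KFlat.Pull

attribute [local instance] HasDerivedCategory.standard

noncomputable section

namespace Groth.Agent.FMBound.Perfect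

variable {X Z : Scheme.{u}}

/-- A perfect object on a quasi-compact scheme has finite flat amplitude. -/
theorem exists_flatAmp [CompactSpace X] {K : DCoh.D X} (hK : DCoh.IsPerfect K) :
    ∃ a b : ℤ, DCoh.HasFlatAmplitudeIn a b K := by
  classical
  let F := DerivedCategory.Q.objPreimage K
  let eK : DerivedCategory.Q.obj F ≅ K := DerivedCategory.Q.objObjPreimageIso K
  have h : ∀ x : X, ∃ (V : X.Opens) (a b : ℤ), x ∈ V ∧
      DCoh.HasFlatAmplitudeIn a b ((DCoh.restrictD V.ι).obj K) := fun x => by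
    obtain ⟨V, hx, hV⟩ := hK x
    obtain ⟨E, hE, ⟨e⟩⟩ := hV F ⟨eK⟩
    obtain ⟨a, b, -, hab⟩ := PCohD.PerfTor.exists_flatAmp hE e.symm
    exact ⟨V, a, b, hx, PCohD.PerfTor.flatAmp_of_iso
      ((PerfTri.Perfect.restrQ V.ι F).symm ≪≫ (DCoh.restrictD V.ι).mapIso eK) hab⟩
  choose V a b hxV hab using h
  obtain ⟨t, ht⟩ := CompactSpace.elim_nhds_subcover (fun x => (V x : Set X))
    (fun x => (V x).2.mem_nhds (hxV x))
  obtain ⟨a₀, ha₀⟩ := (t.image a).bddBelow
  obtain ⟨b₀, hb₀⟩ := (t.image b).bddAbove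
  refine ⟨a₀, b₀, PCohD.PerfAmp.flatAmp_of_local fun x => ?_⟩
  obtain ⟨y, hy, hxy⟩ := Set.mem_iUnion₂.1 (ht.ge (Set.mem_univ x) : x ∈ _)
  obtain ⟨E, hv, hf, he⟩ := hab y
  refine ⟨V y, hxy, E, fun i hi => hv i ?_, hf, he⟩
  have h1 : a₀ ≤ a y := ha₀ (Finset.mem_image_of_mem a hy)
  have h2 : b y ≤ b₀ := hb₀ (Finset.mem_image_of_mem b hy)
  omega

variable (p : Z ⟶ X) [DCoh.HasLpull p] (G : CochainComplex Z.Modules ℤ) [DCoh.HasLTensorCx G]

theorem exists_model {M : DCoh.D X} {a b : ℤ} (hM : DCoh.HasFlatAmplitudeIn a b M) :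
    ∃ P : CochainComplex Z.Modules ℤ, DCoh.IsKFlat P ∧ (∀ i, (i < a ∨ b < i) → IsZero (P.X i)) ∧
      Nonempty ((DCoh.LTensorCx G).obj ((DCoh.Lpull p).obj M) ≅
        DerivedCategory.Q.obj ((DCoh.tensorCx.obj P).obj G)) := by
  obtain ⟨E₀, hv, hf, ⟨e⟩⟩ := hM
  have hE : DCoh.IsKFlat E₀ := isKFlat_of_flat_boundedAbove E₀ b (fun i hi => hv i (Or.inr hi)) hf
  have := isIso_toPull p hE
  have := LTensor.isIso_toTensor G (isKFlat_pullCx p hE)
  exact ⟨(pullCx p).obj E₀, isKFlat_pullCx p hE,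
    fun i hi => (Scheme.Modules.pullback p).map_isZero (hv i hi),
    ⟨(DCoh.LTensorCx G).mapIso ((DCoh.Lpull p).mapIso e.symm ≪≫ asIso ((toPull p).app E₀)) ≪≫
      asIso ((LTensor.toTensor G).app ((pullCx p).obj E₀))⟩⟩

omit [DCoh.HasLTensorCx G] in
theorem isZero_tensor {P B : CochainComplex Z.Modules ℤ} {a b c d : ℤ}
    (hP : ∀ i, (i < a ∨ b < i) → IsZero (P.X i)) (hB : ∀ i, (i < c ∨ d < i) → IsZero (B.X i))
    (i : ℤ) (hi : i < a + c ∨ b + d < i) : IsZero (((DCoh.tensorCx.obj P).obj B).homology i) := by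
  refine ShortComplex.isZero_homology_of_isZero_X₂ _ ?_
  let I := {j : ℤ × ℤ //
    ComplexShape.π (ComplexShape.up ℤ) (ComplexShape.up ℤ) (ComplexShape.up ℤ) j = i}
  let F := fun j : I => ((DCoh.tensorBi (X := Z)).obj (P.X j.1.1)).obj (B.X j.1.2)
  show IsZero (∐ F)
  refine (IsZero.iff_id_eq_zero _).2 (Sigma.hom_ext _ _ fun j => IsZero.eq_of_src ?_ _ _)
  have hn : j.1.1 + j.1.2 = i := j.2
  by_cases h : j.1.1 < a ∨ b < j.1.1
  · exact ((DCoh.tensorBi (X := Z)).flip.obj (B.X j.1.2)).map_isZero (hP _ h)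
  · exact ((DCoh.tensorBi (X := Z)).obj (P.X j.1.1)).map_isZero (hB _ (by omega))

/-- Boundedness. -/
theorem exists_bounds {M : DCoh.D X} {a b : ℤ} (hM : DCoh.HasFlatAmplitudeIn a b M) (c d : ℤ)
    [(DCoh.toD Z G).IsGE c] [(DCoh.toD Z G).IsLE d] :
    ((DCoh.LTensorCx G).obj ((DCoh.Lpull p).obj M)).IsGE (a + c) ∧
      ((DCoh.LTensorCx G).obj ((DCoh.Lpull p).obj M)).IsLE (b + d) := by
  obtain ⟨P, hP, hPv, ⟨e⟩⟩ := exists_model p G hM
  obtain ⟨B, _, _, ⟨eB⟩⟩ := DerivedCategory.exists_iso_Q_obj_of_isGE_of_isLE (DCoh.toD Z G) c d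
  obtain ⟨e'⟩ := KFlat.QCohTensor.exists_tensor_iso hP eB
  have hB : ∀ i, (i < c ∨ d < i) → IsZero (B.X i) := fun i hi =>
    hi.elim (fun h => B.isZero_of_isStrictlyGE c i h) (fun h => B.isZero_of_isStrictlyLE d i h)
  have key : ∀ i, (i < a + c ∨ b + d < i) →
      IsZero ((DerivedCategory.homologyFunctor Z.Modules i).obj
        ((DCoh.LTensorCx G).obj ((DCoh.Lpull p).obj M))) := fun i hi =>
    ((isZero_tensor hPv hB i hi).of_iso ((DerivedCategory.homologyFunctorFactors _ i).app _)).of_iso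
      ((DerivedCategory.homologyFunctor _ i).mapIso (e ≪≫ e'))
  exact ⟨(DerivedCategory.isGE_iff _ _).2 fun i hi => key i (Or.inl hi),
    (DerivedCategory.isLE_iff _ _).2 fun i hi => key i (Or.inr hi)⟩

/-- The tensor product is supported in the support of the cohomology of `G`. -/
theorem isZero_stalk {M : DCoh.D X} {a b : ℤ} (hM : DCoh.HasFlatAmplitudeIn a b M) (z : Z)
    (hz : ∀ j, Subsingleton ((DCoh.HD (DCoh.toD Z G) j).presheaf.stalk z)) (i : ℤ) :
    IsZero ((DerSch.stalkFunctor Z z).obj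
      (DCoh.HD ((DCoh.LTensorCx G).obj ((DCoh.Lpull p).obj M)) i)) := by
  obtain ⟨P, hP, -, ⟨e⟩⟩ := exists_model p G hM
  let S := DerSch.stalkFunctor Z z
  let eH : ∀ (C : CochainComplex Z.Modules ℤ) (j : ℤ),
      S.obj (DCoh.HD (DCoh.toD Z C) j) ≅ ((StalkCx.stCx z).obj C).homology j := fun C j =>
    S.mapIso ((DerivedCategory.homologyFunctorFactors _ j).app C) ≪≫ ((C.sc j).mapHomologyIso S).symm
  have hG : ∀ j, IsZero (((StalkCx.stCx z).obj G).homology j) := fun j => by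
    have : Subsingleton (S.obj (DCoh.HD (DCoh.toD Z G) j)) := hz j
    exact (ModuleCat.isZero_of_subsingleton _).of_iso (eH G j).symm
  have h1 := (StalkCx.isKFlat_iff_stalk P).1 hP z ((StalkCx.stCx z).obj G) hG i
  let T := (DCoh.tensorCx.obj P).obj G
  refine IsZero.of_iso ?_ (S.mapIso ((DerivedCategory.homologyFunctor _ i).mapIso e) ≪≫ eH T i)
  exact h1.of_iso ((HomologicalComplex.homologyFunctor _ _ i).mapIso
    (StalkCx.stTensIso z P G ≪≫ Groth.Agent.DRing.Tensor.braid _ _))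

end Groth.Agent.FMBound.Perfect
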